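import Groth.Agent.DimFormula.Fibre

/-!
# Fibre dimension bounded by the generic one, over a base with Noetherian local ring at the point
-/

set_option autoImplicit false
set_option linter.style.haveILetI false

open AlgebraicGeometry CategoryTheory Limits Order Topology

namespace Groth.Agent.FibDimGen

universe u

theorem codim_closedPoint (R : CommRingCat.{u}) [IsLocalRing R] [IsNoetherianRing R] :
    ((DimFormula.codim (X := Spec R) (IsLocalRing.closedPoint R) : ℕ∞) : WithBot ℕ∞) = ringKrullDim R := by
  let pt : ↥(Spec R) := IsLocalRing.closedPoint R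
  letI : Algebra R ((Spec R).presheaf.stalk pt) := StructureSheaf.stalkAlgebra R pt
  haveI : IsLocalization.AtPrime ((Spec R).presheaf.stalk pt) pt.asIdeal :=
    StructureSheaf.IsLocalization.to_stalk R pt
  refine (DimFormula.ringKrullDim_stalk pt).symm.trans ?_
  rw [IsLocalization.AtPrime.ringKrullDim_eq_height pt.asIdeal ((Spec R).presheaf.stalk pt)]
  exact IsLocalRing.maximalIdeal_height_eq_ringKrullDim

variable {X Y : Scheme.{u}} (f : X ⟶ Y) [LocallyOfFiniteType f]

/-- The fibre dimension at `x` is either the relative degree of a maximal point above `x` in the same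
fibre, or is smaller than `dim O_{f x}` plus the relative degree of a maximal point above `x`. -/
theorem exists_maximal_bound (x : X) [IsNoetherianRing (Y.presheaf.stalk (f.base x))] :
    ∃ η : X, η ⤳ x ∧ (∀ z, z ⤳ η → z = η) ∧
      ((f η = f x ∧ FlatMor.fibreDimAt f x = FlatMor.fibreDimAt f η) ∨
        FlatMor.fibreDimAt f x + 1 ≤
          FlatMor.fibreDimAt f η + ringKrullDim (Y.presheaf.stalk (f.base x))) := by
  obtain ⟨z, hzx, hfz, hzmax, he⟩ := FibDim.exists_fibMax_generization f x
  obtain ⟨η, hηz, hηmax⟩ := FibDim.exists_maximal_generization z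
  have heη := FibDim.fibreDimAt_eq_rd f (FibDim.fibMax_of_maximal f hηmax)
  refine ⟨η, hηz.trans hzx, hηmax, ?_⟩
  by_cases hηz' : η = z
  · subst hηz'
    exact Or.inl ⟨hfz, he.trans heη.symm⟩
  refine Or.inr ?_
  let R : CommRingCat.{u} := Y.presheaf.stalk (f x)
  haveI : IsNoetherianRing R := inferInstanceAs (IsNoetherianRing (Y.presheaf.stalk (f.base x)))
  let g : Spec R ⟶ Y := Y.fromSpecStalk (f x)
  let p : pullback f g ⟶ X := pullback.fst f g
  let q : pullback f g ⟶ Spec R := pullback.snd f g
  haveI : IsPreimmersion p := MorphismProperty.pullback_fst f g inferInstance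
  haveI : LocallyOfFiniteType q := inferInstanceAs (LocallyOfFiniteType (pullback.snd f g))
  have hp : Function.Injective p := p.isEmbedding.injective
  have hrd : ∀ w, FibDim.rd q w = FibDim.rd f (p w) := fun w =>
    FibDim.rd_baseChange_eq_of_minimal (IsPullback.of_hasPullback f g) w fun v _ h _ => hp h
  have hgc : g (IsLocalRing.closedPoint R) = f x := Scheme.fromSpecStalk_closedPoint
  have hlift : ∀ w : X, f w ⤳ f x → ∃ w', p w' = w := fun w hw => by
    have : w ∈ Set.range p := by
      rw [show Set.range p = f ⁻¹' Set.range g from Scheme.Pullback.range_fst f g,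
        Set.mem_preimage, Scheme.range_fromSpecStalk]
      exact hw
    exact this
  obtain ⟨z', rfl⟩ := hlift z (hzx.map f.continuous)
  obtain ⟨η', rfl⟩ := hlift η ((hηz.trans hzx).map f.continuous)
  have hqz : q z' = IsLocalRing.closedPoint R :=
    g.isEmbedding.injective (by
      rw [hgc, ← hfz]
      show (q ≫ g) z' = (p ≫ f) z'
      rw [show q ≫ g = p ≫ f from pullback.condition.symm])
  have hsp : η' ⤳ z' := p.isEmbedding.isInducing.specializes_iff.1 hηz
  haveI : IsLocallyNoetherian (pullback f g) := LocallyOfFiniteType.isLocallyNoetherian q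
  have h1 := (DimFormula.cd_formula q hsp).1
  have h2 : DimFormula.cd η' z' ≠ 0 := fun h => hηz' (congrArg p ((DimFormula.cd_eq_zero_iff hsp).1 h))
  have h3 := DimFormula.cd_le_codim (hsp.map q.continuous)
  rw [hqz] at h1 h3
  rw [hrd z', hrd η'] at h1
  have h4 : FibDim.rd f (p z') + 1 ≤
      FibDim.rd f (p η') + DimFormula.codim (X := Spec R) (IsLocalRing.closedPoint R) := by omega
  rw [he, heη, show ringKrullDim (Y.presheaf.stalk (f.base x)) = _ from (codim_closedPoint R).symm]
  exact_mod_cast h4

theorem mem_component {x η : X} (hη : η ⤳ x) (hmax : ∀ z, z ⤳ η → z = η) :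
    closure {η} ∈ irreducibleComponents (X : Type u) ∧ x ∈ closure {η} :=
  ⟨FDescent.closure_mem_irreducibleComponents hmax, specializes_iff_mem_closure.1 hη⟩

end Groth.Agent.FibDimGen
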